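import Groth.Agent.RootAlgzLib.Algz
import Groth.Agent.LimHomLib.Descend
import Groth.Agent.LimHomLib.Main
import Groth.Agent.FlatFunLimLib.Main
import Groth.Agent.LimLocFreeLib.Main

/-!
# Roots of line bundles descend to a stage
-/

set_option autoImplicit false
set_option linter.style.haveILetI false
set_option maxHeartbeats 1000000
universe u

open CategoryTheory CategoryTheory.Limits AlgebraicGeometry TopologicalSpace Opposite RichLib.LimBC
open KFlatLib (pb)

noncomputable section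

namespace RootAlgzLib

variable {I : Type u} [SmallCategory I] [IsCofiltered I] {W : Scheme.{u}} (B : Sys I W)

/-- **A root on the limit comes from a root at a stage.** -/
theorem exists_root_stage [CompactSpace W] [∀ i, IsNoetherian (B.D.obj i)] [IsNoetherian B.c.pt]
    {N : W.Modules} (hN : PicF.IsInvertible N) {n : ℕ} {M : B.c.pt.Modules} (hM : PicF.IsInvertible M)
    (e : CohB1.tensorPow M n ≅ pb B.s N) :
    ∃ (i : I) (Mi : (B.D.obj i).Modules), PicF.IsInvertible Mi ∧ Nonempty (pb (B.c.π.app i) Mi ≅ M) ∧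
      Nonempty (CohB1.tensorPow Mi n ≅ pb (B.t i) N) := by
  classical
  obtain ⟨i₀⟩ : Nonempty I := IsCofiltered.nonempty
  haveI : ∀ (i j : I) (f : i ⟶ j), IsAffineHom (B.D.map f) := fun i j f => B.affine_map f
  obtain ⟨hMq, hMfp, -⟩ := CohCmpLib.rank_one_hyps (𝟙 B.c.pt) ((CohCmpLib.invertible_iff_rank_one M).1 hM)
  haveI := (CurvLib.isCoh_of_isInvertible hM).1
  obtain ⟨φ, F, hFq, hFfp, ⟨eF⟩⟩ := LimHomLib.exists_descend B.hc (i₀ := i₀) M hMfp
  haveI := hFq
  have hg : LimLocFreeLib.Good (fun r => r = 1) F (B.c.π.app φ.left) :=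
    (LimLocFreeLib.isFinLocFreeOfRank_iff F 1 _).1
      ((CohCmpLib.invertible_iff_rank_one _).1 (HilbPolyLib.isInvertible_of_iso eF.symm hM))
  obtain ⟨j, ψ, hj⟩ := (LimLocFreeLib.good_iff B.D B.c B.hc φ.left (fun r => r = 1) F hFfp).1 hg
  let G := pb (B.D.map ψ) F
  have hG : PicF.IsInvertible G :=
    (CohCmpLib.invertible_iff_rank_one _).2 ((LimLocFreeLib.isFinLocFreeOfRank_iff F 1 _).2 hj)
  let eG : pb (B.c.π.app j) G ≅ M :=
    (Scheme.Modules.pullbackComp _ _).app F ≪≫ (Scheme.Modules.pullbackCongr (B.c.w ψ)).app F ≪≫ eF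
  let G' := CohB1.tensorPow G n
  let N' := pb (B.t j) N
  have hG' : PicF.IsInvertible G' := AmpleThLib.tensorPow_isInvertible hG n
  have hN' : PicF.IsInvertible N' := AmpleDevLib.isInvertible_pb _ hN
  haveI := (CurvLib.isCoh_of_isInvertible hG').1
  haveI := (CurvLib.isCoh_of_isInvertible hN').1
  obtain ⟨-, hG'fp, -⟩ := CohCmpLib.rank_one_hyps (𝟙 _) ((CohCmpLib.invertible_iff_rank_one G').1 hG')
  obtain ⟨-, hN'fp, -⟩ := CohCmpLib.rank_one_hyps (𝟙 _) ((CohCmpLib.invertible_iff_rank_one N').1 hN')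
  obtain ⟨pG⟩ := nonempty_pb_pow (B.c.π.app j) hG n
  obtain ⟨cg⟩ := GrSysLib.nonempty_tensorPow_congr eG n
  let h : pb (B.c.π.app j) G' ≅ pb (B.c.π.app j) N' :=
    pG ≪≫ cg ≪≫ e ≪≫ (Scheme.Modules.pullbackCongr (B.hs j).symm).app N ≪≫
      ((Scheme.Modules.pullbackComp _ _).app N).symm
  obtain ⟨a, hm, hha⟩ := LimHomLib.exists_hom B.hc (i₀ := j) G' N' hG'fp h.hom
  have hiso : IsIso ((Scheme.Modules.pullback (B.c.π.app a.left)).map hm) := by
    have : IsIso (((LimHomLib.cmp (B.c.w a.hom)).app G').inv ≫ (Scheme.Modules.pullback (B.c.π.app a.left)).map hm ≫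
        ((LimHomLib.cmp (B.c.w a.hom)).app N').hom) := by rw [hha]; infer_instance
    haveI h2 := IsIso.of_isIso_comp_left ((LimHomLib.cmp (B.c.w a.hom)).app G').inv
      ((Scheme.Modules.pullback (B.c.π.app a.left)).map hm ≫ ((LimHomLib.cmp (B.c.w a.hom)).app N').hom)
    exact IsIso.of_isIso_comp_right _ ((LimHomLib.cmp (B.c.w a.hom)).app N').hom
  have hGa := AmpleDevLib.isInvertible_pb (B.D.map a.hom) hG'
  have hNa := AmpleDevLib.isInvertible_pb (B.D.map a.hom) hN'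
  haveI := (CurvLib.isCoh_of_isInvertible hGa).1
  haveI := (CurvLib.isCoh_of_isInvertible hNa).1
  obtain ⟨-, hNafp, -⟩ := CohCmpLib.rank_one_hyps (𝟙 _) ((CohCmpLib.invertible_iff_rank_one _).1 hNa)
  obtain ⟨b, hb⟩ := FlatFunLimLib.exists_stage_isIso hm (restart B a.left)
    (CurvLib.isCoh_of_isInvertible hGa).2 hNafp (CurvLib.isCoh_of_isInvertible hNa).2 hiso
  haveI := hb
  let Mi := pb (B.D.map b.hom) (pb (B.D.map a.hom) G)
  have hMi : PicF.IsInvertible Mi := AmpleDevLib.isInvertible_pb _ (AmpleDevLib.isInvertible_pb _ hG)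
  refine ⟨b.left, Mi, hMi, ⟨?_⟩, ?_⟩
  · exact (Scheme.Modules.pullbackComp _ _).app _ ≪≫ (Scheme.Modules.pullbackCongr (B.c.w b.hom)).app _ ≪≫
      (Scheme.Modules.pullbackComp _ _).app _ ≪≫ (Scheme.Modules.pullbackCongr (B.c.w a.hom)).app _ ≪≫ eG
  · obtain ⟨p1⟩ := nonempty_pb_pow (B.D.map a.hom) hG n
    obtain ⟨p2⟩ := nonempty_pb_pow (B.D.map b.hom) (AmpleDevLib.isInvertible_pb (B.D.map a.hom) hG) n
    exact ⟨p2.symm ≪≫ (Scheme.Modules.pullback (B.D.map b.hom)).mapIso p1.symm ≪≫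
      @asIso _ _ _ _ ((Scheme.Modules.pullback (B.D.map b.hom)).map hm) hb ≪≫
      (Scheme.Modules.pullback (B.D.map b.hom)).mapIso ((Scheme.Modules.pullbackComp _ _).app N ≪≫
        (Scheme.Modules.pullbackCongr (B.w a.hom)).app N) ≪≫
      (Scheme.Modules.pullbackComp _ _).app N ≪≫ (Scheme.Modules.pullbackCongr (B.w b.hom)).app N⟩

end RootAlgzLib

end
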