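import Groth.Agent.RootAlgzLib.Open
import Groth.Agent.AlgEquivCurveLib.Mul
import Groth.Agent.NumTrivLib.Tau

/-!
# Algebraically trivial modules are divisible
-/

set_option autoImplicit false
set_option linter.style.haveILetI false
set_option maxHeartbeats 2000000
universe u

open CategoryTheory CategoryTheory.Limits AlgebraicGeometry TopologicalSpace Opposite
open KFlatLib (pb)
open AlgEquivCurveLib CubeConsLib

noncomputable section

namespace RootAlgzLib

variable {k : Type u} [Field k] [IsAlgClosed k] {X : Scheme.{u}} [X.Over (Spec (CommRingCat.of k))]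
  [IsProper (X ↘ Spec (CommRingCat.of k))]

/-- The inverse of an algebraically trivial class. -/
theorem ae_inv {c : IsoCls X} (h : AE k X c) : ∃ d, AE k X d ∧ c * d = 1 := by
  obtain ⟨T, q, h1, h2, h3, M, hM, t, t₀, ht, ht₀, e, e₀⟩ := h
  obtain ⟨M', ⟨eM⟩⟩ := NumTrivLib.exists_inverse hM
  have hM' := IntMultLib.isInvertible_of_inverse hM eM
  have h' : ∀ (w : Spec (CommRingCat.of k) ⟶ T) (hw : w ≫ q = 𝟙 _),
      pull (Pic13.sliceAt k X q w hw) (CubeConsLib.cl M) * pull (Pic13.sliceAt k X q w hw) (CubeConsLib.cl M') = 1 :=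
    fun w hw => by rw [← map_mul, ← cl_tensor, cl_eq_one_iff.2 ⟨eM⟩, map_one]
  refine ⟨pull (Pic13.sliceAt k X q t ht) (CubeConsLib.cl M'),
    ⟨T, q, h1, h2, h3, M', hM', t, t₀, ht, ht₀, rfl, ?_⟩, by rw [← e]; exact h' t ht⟩
  have := h' t₀ ht₀
  rwa [e₀, _root_.one_mul] at this

/-- Two members differ by an `n`-th power of an algebraically trivial class. -/
def DR (n : ℕ) (a b : IsoCls X) : Prop := ∃ c, AE k X c ∧ c ^ n * b = a

theorem DR.refl (n : ℕ) (a : IsoCls X) : DR (k := k) n a a := ⟨1, AE.one, by rw [one_pow, _root_.one_mul]⟩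

theorem DR.symm {n : ℕ} {a b : IsoCls X} (h : DR (k := k) n a b) : DR (k := k) n b a := by
  obtain ⟨c, hc, rfl⟩ := h
  obtain ⟨d, hd, hcd⟩ := ae_inv hc
  exact ⟨d, hd, by rw [← _root_.mul_assoc, ← mul_pow, _root_.mul_comm d c, hcd, one_pow, _root_.one_mul]⟩

theorem DR.trans {n : ℕ} {a b c : IsoCls X} (h : DR (k := k) n a b) (h' : DR (k := k) n b c) : DR (k := k) n a c := by
  obtain ⟨d, hd, rfl⟩ := h
  obtain ⟨e, he, rfl⟩ := h'
  exact ⟨d * e, hd.mul he, by rw [mul_pow, _root_.mul_assoc]⟩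

variable {T : Scheme.{u}} (q : T ⟶ Spec (CommRingCat.of k)) [LocallyOfFiniteType q]
  {M : (Pic13.prodK k X q).Modules}

/-- The member at a closed point. -/
def memb (M : (Pic13.prodK k X q).Modules) (x : T) (hx : IsClosed ({x} : Set T)) : IsoCls X :=
  pull (Pic13.sliceAt k X q (pointOfClosedPoint q x hx) (pointOfClosedPoint_comp q x hx)) (CubeConsLib.cl M)

theorem memb_eq (M : (Pic13.prodK k X q).Modules) (u : Spec (CommRingCat.of k) ⟶ T) (hu : u ≫ q = 𝟙 _) (x : T)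
    (hx : IsClosed ({x} : Set T)) (e : u (IsLocalRing.closedPoint k) = x) :
    pull (Pic13.sliceAt k X q u hu) (CubeConsLib.cl M) = memb q M x hx := by
  subst e
  have : pointOfClosedPoint q _ hx = u :=
    congrArg Subtype.val ((pointEquivClosedPoint q).left_inv ⟨u, hu⟩)
  simp only [memb, this]

/-- Near a closed point of an irreducible closed set the members are related to it. -/
theorem exists_open_related {n : ℕ} (hnk : (n : k) ≠ 0) (hM : PicF.IsInvertible M) {Z : Set T} (hZ : IsIrreducible Z)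
    (hZc : IsClosed Z) {z : T} (hz : z ∈ Z) (hzc : IsClosed ({z} : Set T)) :
    ∃ O : Set T, IsOpen O ∧ hZ.genericPoint ∈ O ∧ ∀ x ∈ O ∩ Z, ∀ hx : IsClosed ({x} : Set T),
      DR (k := k) n (memb q M x hx) (memb q M z hzc) := by
  classical
  obtain ⟨W, hW, hzW, -⟩ := exists_isAffineOpen_mem_and_subset (U := (⊤ : T.Opens)) (x := z) trivial
  let η := hZ.genericPoint
  have hcl : closure ({η} : Set T) = Z := hZ.closure_genericPoint hZc
  have hηW : η ∈ W := (specializes_iff_mem_closure.mpr (show z ∈ closure ({η} : Set T) by rw [hcl]; exact hz)).mem_open W.2 hzW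
  let p := hW.primeIdealOf ⟨η, hηW⟩
  let R := Γ(T, W) ⧸ p.asIdeal
  let i : Spec (CommRingCat.of R) ⟶ T := Spec.map (CommRingCat.ofHom (Ideal.Quotient.mk p.asIdeal)) ≫ hW.fromSpec
  haveI : LocallyOfFiniteType i := by
    haveI : IsClosedImmersion (Spec.map (CommRingCat.ofHom (Ideal.Quotient.mk p.asIdeal))) :=
      IsClosedImmersion.spec_of_surjective _ Ideal.Quotient.mk_surjective
    infer_instance
  obtain ⟨φ, hφ⟩ := Spec.map_surjective (i ≫ q)
  obtain ⟨φ⟩ := φ
  letI : Algebra k R := φ.toAlgebra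
  have hq : Spec.map (CommRingCat.ofHom (algebraMap k R)) = i ≫ q := hφ
  haveI : Algebra.FiniteType k R := by
    haveI : LocallyOfFiniteType (Spec.map (CommRingCat.ofHom (algebraMap k R))) := by rw [hq]; infer_instance
    exact RingHom.finiteType_algebraMap.1 ((HasRingHomProperty.Spec_iff (P := @LocallyOfFiniteType)).1 this)
  have hemb : Topology.IsInducing i :=
    (hW.fromSpec.isEmbedding.comp (IsClosedImmersion.spec_of_surjective
      (CommRingCat.ofHom (Ideal.Quotient.mk p.asIdeal)) Ideal.Quotient.mk_surjective).base_closed.isEmbedding).isInducing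
  have hmem : ∀ x ∈ W, η ⤳ x → ∃ a, i a = x := fun x hx hsp => by
    have : hW.fromSpec (hW.primeIdealOf ⟨η, hηW⟩) ⤳ hW.fromSpec (hW.primeIdealOf ⟨x, hx⟩) := by
      rwa [hW.fromSpec_primeIdealOf, hW.fromSpec_primeIdealOf]
    have hle : p.asIdeal ≤ (hW.primeIdealOf ⟨x, hx⟩).asIdeal :=
      (PrimeSpectrum.le_iff_specializes _ _).2 (hW.fromSpec.isEmbedding.isInducing.specializes_iff.1 this)
    obtain ⟨a, ha⟩ : hW.primeIdealOf ⟨x, hx⟩ ∈ Set.range (PrimeSpectrum.comap (Ideal.Quotient.mk p.asIdeal)) := by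
      rw [range_comap_of_surjective _ _ Ideal.Quotient.mk_surjective, Ideal.mk_ker]
      exact hle
    exact ⟨a, (congrArg hW.fromSpec ha).trans (hW.fromSpec_primeIdealOf ⟨x, hx⟩)⟩
  have hspec : ∀ x ∈ Z, η ⤳ x := fun x hx => specializes_iff_mem_closure.mpr (by rw [hcl]; exact hx)
  have hclosed : ∀ a, IsClosed ({i a} : Set T) → IsClosed ({a} : Set (Spec (CommRingCat.of R))) := fun a ha => by
    have := ha.preimage i.continuous
    rwa [show i ⁻¹' ({i a} : Set T) = {a} from Set.ext fun b => ⟨fun hb =>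
      (hW.fromSpec.isEmbedding.comp (IsClosedImmersion.spec_of_surjective
        (CommRingCat.ofHom (Ideal.Quotient.mk p.asIdeal)) Ideal.Quotient.mk_surjective).base_closed.isEmbedding).injective hb,
      fun hb => by rw [Set.mem_singleton_iff.1 hb]; exact rfl⟩] at this
  obtain ⟨z', hz'⟩ := hmem z hzW (hspec z hz)
  let qR := Spec.map (CommRingCat.ofHom (algebraMap k R))
  have hz'c : IsClosed ({z'} : Set (Spec (CommRingCat.of R))) := hclosed z' (by rw [hz']; exact hzc)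
  haveI : LocallyOfFiniteType qR := by rw [show qR = i ≫ q from hq]; infer_instance
  let t := pointOfClosedPoint qR z' hz'c
  have ht : t ≫ qR = 𝟙 _ := pointOfClosedPoint_comp qR z' hz'c
  have hu' : ∀ u : Spec (CommRingCat.of k) ⟶ Spec (CommRingCat.of R), u ≫ qR = 𝟙 _ → (u ≫ i) ≫ q = 𝟙 _ :=
    fun u hu => by rw [Category.assoc, ← hq]; exact hu
  obtain ⟨Lz', ⟨eLz⟩⟩ := NumTrivLib.exists_inverse (AmpleDevLib.isInvertible_pb
    (Pic13.sliceAt k X q (t ≫ i) (hu' t ht)) hM)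
  have hLz' := IntMultLib.isInvertible_of_inverse (AmpleDevLib.isInvertible_pb _ hM) eLz
  let im : Pic13.prodK k X qR ⟶ Pic13.prodK k X q :=
    pullback.lift (pullback.fst _ qR) (pullback.snd _ qR ≫ i) (by rw [Category.assoc, ← hq]; exact pullback.condition)
  have him : ∀ (u : Spec (CommRingCat.of k) ⟶ Spec (CommRingCat.of R)) (hu : u ≫ qR = 𝟙 _),
      Pic13.sliceAt k X qR u hu ≫ im = Pic13.sliceAt k X q (u ≫ i) (hu' u hu) := fun u hu => by
    refine pullback.hom_ext ?_ ?_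
    · rw [Category.assoc, pullback.lift_fst, Pic13.sliceAt, Pic13.sliceAt, pullback.lift_fst, pullback.lift_fst]
    · rw [Category.assoc, pullback.lift_snd, Pic13.sliceAt, Pic13.sliceAt, pullback.lift_snd_assoc,
        pullback.lift_snd, Category.assoc]
  let N := CohB1.tensorMod (pb im M) (pb (pullback.fst _ qR) Lz')
  have hN : PicF.IsInvertible N :=
    HilbPolyLib.isInvertible_tensor (AmpleDevLib.isInvertible_pb _ hM) (AmpleDevLib.isInvertible_pb _ hLz')
  have hNu : ∀ (u : Spec (CommRingCat.of k) ⟶ Spec (CommRingCat.of R)) (hu : u ≫ qR = 𝟙 _),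
      pull (Pic13.sliceAt k X qR u hu) (CubeConsLib.cl N) =
        pull (Pic13.sliceAt k X q (u ≫ i) (hu' u hu)) (CubeConsLib.cl M) * CubeConsLib.cl Lz' := fun u hu => by
    rw [cl_tensor, map_mul]
    congr 1
    · rw [show CubeConsLib.cl (pb im M) = pull im (CubeConsLib.cl M) from rfl, pull_comp, him]
    · rw [show CubeConsLib.cl (pb (pullback.fst _ qR) Lz') = pull (pullback.fst _ qR) (CubeConsLib.cl Lz') from rfl,
        pull_comp, show Pic13.sliceAt k X qR u hu ≫ pullback.fst _ qR = 𝟙 X from pullback.lift_fst _ _ _]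
      exact cl_eq_iff.2 ⟨(Scheme.Modules.pullbackId X).app Lz'⟩
  have hzz : pull (Pic13.sliceAt k X q (t ≫ i) (hu' t ht)) (CubeConsLib.cl M) * CubeConsLib.cl Lz' = 1 :=
    cl_eq_one_iff.2 ⟨eLz⟩
  obtain ⟨U, hU, hroots⟩ := exists_open_roots k X hnk R t ht N hN (cl_eq_one_iff.1 ((hNu t ht).trans hzz))
  obtain ⟨O, hO, hOU⟩ := hemb.isOpen_iff.1 U.2
  refine ⟨O ∩ W, hO.inter W.2, ⟨?_, hηW⟩, ?_⟩
  · obtain ⟨a, ha⟩ := hmem η hηW specializes_rfl
    obtain ⟨b, hb⟩ := hU
    have hab : a ⤳ b := hemb.specializes_iff.1 (by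
      rw [ha]
      show η ⤳ hW.fromSpec _
      refine (congrArg (· ⤳ hW.fromSpec (Spec.map (CommRingCat.ofHom (Ideal.Quotient.mk p.asIdeal)) b))
        (hW.fromSpec_primeIdealOf ⟨η, hηW⟩)).mp ?_
      refine Specializes.map ?_ hW.fromSpec.continuous
      refine (PrimeSpectrum.le_iff_specializes _ _).1 ?_
      show p.asIdeal ≤ Ideal.comap (Ideal.Quotient.mk p.asIdeal) b.asIdeal
      exact le_trans (by rw [← RingHom.ker_eq_comap_bot, Ideal.mk_ker]) (Ideal.comap_mono bot_le))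
    show η ∈ O
    rw [← ha]
    exact hOU.ge (hab.mem_open U.2 hb)
  · rintro x ⟨⟨hxO, hxW⟩, hxZ⟩ hxc
    obtain ⟨a, rfl⟩ := hmem x hxW (hspec x hxZ)
    let u := pointOfClosedPoint qR a (hclosed a hxc)
    have hu : u ≫ qR = 𝟙 _ := pointOfClosedPoint_comp qR a (hclosed a hxc)
    obtain ⟨P, -, hP, ⟨eP⟩⟩ := hroots u hu (by rw [pointOfClosedPoint_apply]; exact hOU.le hxO)
    refine ⟨CubeConsLib.cl P, ae_iff.2 hP, ?_⟩
    have h1 : CubeConsLib.cl P ^ n =
        pull (Pic13.sliceAt k X q (u ≫ i) (hu' u hu)) (CubeConsLib.cl M) * CubeConsLib.cl Lz' := by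
      rw [← hNu u hu, ← NumTrivLib.cl_tensorPow]
      exact cl_eq_iff.2 ⟨eP⟩
    rw [← memb_eq q M (u ≫ i) (hu' u hu) (i a) hxc (by
        rw [Scheme.Hom.comp_apply, pointOfClosedPoint_apply]),
      ← memb_eq q M (t ≫ i) (hu' t ht) z hzc (by rw [Scheme.Hom.comp_apply, pointOfClosedPoint_apply]; exact hz'),
      h1, _root_.mul_assoc, _root_.mul_comm (CubeConsLib.cl Lz'), hzz, _root_.mul_one]

/-- **Algebraically trivial modules are divisible by integers invertible in the field.** -/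
theorem exists_root_algEquiv {n : ℕ} (hnk : (n : k) ≠ 0) {L : X.Modules} (h : Pic13.IsAlgEquivZero k X L) :
    ∃ P : X.Modules, PicF.IsInvertible P ∧ Pic13.IsAlgEquivZero k X P ∧ Nonempty (CohB1.tensorPow P n ≅ L) := by
  classical
  obtain ⟨T, q, hconn, hlft, hqc, M, hM, t, t₀, ht, ht₀, ⟨e⟩, ⟨e₀⟩⟩ := h
  haveI := hlft
  haveI := hconn
  haveI : IsLocallyNoetherian T := LocallyOfFiniteType.isLocallyNoetherian q
  haveI : CompactSpace T := QuasiCompact.compactSpace_of_compactSpace q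
  haveI : IsNoetherian T := {}
  haveI : JacobsonSpace T := LocallyOfFiniteType.jacobsonSpace q
  have hcl := fun (u : Spec (CommRingCat.of k) ⟶ T) (hu : u ≫ q = 𝟙 _) => (pointEquivClosedPoint q ⟨u, hu⟩).2
  let z₀ := t₀ (IsLocalRing.closedPoint k)
  let good : Set T → Prop := fun Z => ∃ x ∈ Z, ∃ hx : IsClosed ({x} : Set T),
    DR (k := k) n (memb q M x hx) (memb q M z₀ (hcl t₀ ht₀))
  have hcomp : ∀ Z ∈ irreducibleComponents T, good Z → ∀ x ∈ Z, ∀ hx : IsClosed ({x} : Set T),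
      DR (k := k) n (memb q M x hx) (memb q M z₀ (hcl t₀ ht₀)) := by
    rintro Z hZ ⟨w, hw, hwc, hwr⟩ x hx hxc
    have hZc := isClosed_of_mem_irreducibleComponents Z hZ
    obtain ⟨O₁, hO₁, hη₁, h₁⟩ := exists_open_related (k := k) q hnk hM hZ.1 hZc hx hxc
    obtain ⟨O₂, hO₂, hη₂, h₂⟩ := exists_open_related (k := k) q hnk hM hZ.1 hZc hw hwc
    obtain ⟨v, hv, hvc⟩ := nonempty_inter_closedPoints (Z := (O₁ ∩ O₂) ∩ Z)
      ⟨hZ.1.genericPoint, ⟨hη₁, hη₂⟩, by
        have := hZ.1.closure_genericPoint hZc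
        exact this.subset (subset_closure rfl)⟩
      ((hO₁.inter hO₂).isLocallyClosed.inter hZc.isLocallyClosed)
    exact ((h₁ v ⟨hv.1.1, hv.2⟩ hvc).symm.trans (h₂ v ⟨hv.1.2, hv.2⟩ hvc)).trans hwr
  haveI : Finite (irreducibleComponents T) :=
    TopologicalSpace.NoetherianSpace.finite_irreducibleComponents.to_subtype
  let A : Set T := ⋃ Z : {Z : irreducibleComponents T // good Z.1}, Z.1.1
  let B : Set T := ⋃ Z : {Z : irreducibleComponents T // ¬ good Z.1}, Z.1.1
  have hA : IsClosed A := isClosed_iUnion_of_finite fun Z => isClosed_of_mem_irreducibleComponents _ Z.1.2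
  have hB : IsClosed B := isClosed_iUnion_of_finite fun Z => isClosed_of_mem_irreducibleComponents _ Z.1.2
  have hAB : A ∪ B = Set.univ := Set.eq_univ_of_forall fun x => by
    let Z : irreducibleComponents T := ⟨irreducibleComponent x, irreducibleComponent_mem_irreducibleComponents x⟩
    rcases em (good Z.1) with hg | hg
    · exact Or.inl (Set.mem_iUnion.2 ⟨⟨Z, hg⟩, mem_irreducibleComponent⟩)
    · exact Or.inr (Set.mem_iUnion.2 ⟨⟨Z, hg⟩, mem_irreducibleComponent⟩)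
  have hdis : A ∩ B = ∅ := by
    by_contra hne
    obtain ⟨v, hv, hvc⟩ := nonempty_inter_closedPoints (Set.nonempty_iff_ne_empty.2 hne) (hA.inter hB).isLocallyClosed
    obtain ⟨⟨Z₁, hg₁⟩, hv₁⟩ := Set.mem_iUnion.1 hv.1
    obtain ⟨⟨Z₂, hg₂⟩, hv₂⟩ := Set.mem_iUnion.1 hv.2
    exact hg₂ ⟨v, hv₂, hvc, hcomp _ Z₁.2 hg₁ v hv₁ hvc⟩
  have hz₀A : z₀ ∈ A := Set.mem_iUnion.2 ⟨⟨⟨_, irreducibleComponent_mem_irreducibleComponents z₀⟩,
    ⟨z₀, mem_irreducibleComponent, hcl t₀ ht₀, DR.refl n _⟩⟩, mem_irreducibleComponent⟩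
  have hAo : IsOpen A := by
    have : A = Bᶜ := Set.ext fun x => ⟨fun hx hx' => Set.eq_empty_iff_forall_notMem.1 hdis x ⟨hx, hx'⟩,
      fun hx => (hAB.ge (Set.mem_univ x)).resolve_right hx⟩
    rw [this]; exact hB.isOpen_compl
  have hAuniv : A = Set.univ := IsClopen.eq_univ ⟨hA, hAo⟩ ⟨z₀, hz₀A⟩
  obtain ⟨⟨Z, hg⟩, hZt⟩ := Set.mem_iUnion.1 (hAuniv.ge (Set.mem_univ (t (IsLocalRing.closedPoint k))))
  obtain ⟨c, hc, hcn⟩ := hcomp _ Z.2 hg _ hZt (hcl t ht)
  replace hcn := ((congrArg (c ^ n * ·) (memb_eq q M t₀ ht₀ z₀ (hcl t₀ ht₀) rfl)).trans hcn).trans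
    (memb_eq q M t ht (t (IsLocalRing.closedPoint k)) (hcl t ht) rfl).symm
  rw [show pull (Pic13.sliceAt k X q t₀ ht₀) (CubeConsLib.cl M) = 1 from cl_eq_one_iff.2 ⟨e₀⟩,
    show pull (Pic13.sliceAt k X q t ht) (CubeConsLib.cl M) = CubeConsLib.cl L from cl_eq_iff.2 ⟨e⟩,
    _root_.mul_one] at hcn
  have hc' := hc
  obtain ⟨T', q', -, -, -, M', hM', s, -, hs, -, es, -⟩ := hc
  subst es
  refine ⟨pb (Pic13.sliceAt k X q' s hs) M', AmpleDevLib.isInvertible_pb _ hM', ae_iff.1 hc', cl_eq_iff.1 ?_⟩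
  rw [NumTrivLib.cl_tensorPow]
  exact hcn

end RootAlgzLib

end
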