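import Groth.Agent.RootLiftLib.Basic
import Groth.Agent.ThickTrivLib.Main
import Groth.Agent.FormalCohLib.Proper
import Groth.Agent.NumTrivLib.BoundedProj
import Groth.Agent.IntMultLib.Positive
import Groth.Agent.GrSysLib.ThickVan

/-!
# Roots of line bundles over a complete local base
-/

set_option autoImplicit false
set_option linter.style.haveILetI false
set_option maxHeartbeats 1000000
universe u

open CategoryTheory CategoryTheory.Limits AlgebraicGeometry TopologicalSpace Opposite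
open KFlatLib (pb)
open PicAlgzLib (incl thickOf)

noncomputable section

namespace RootAlgzLib

theorem nonempty_pb_pow {X Y : Scheme.{u}} (g : X ⟶ Y) {L : Y.Modules} (hL : PicF.IsInvertible L) (n : ℕ) :
    Nonempty (pb g (CohB1.tensorPow L n) ≅ CohB1.tensorPow (pb g L) n) :=
  ⟨(AmpleDevLib.exists_pullPowIso g hL n).choose⟩

variable {A : Type u} [CommRing A] [IsNoetherianRing A] [IsLocalRing A]
  [IsAdicComplete (IsLocalRing.maximalIdeal A) A] {X : Scheme.{u}} (f : X ⟶ Spec (CommRingCat.of A)) [IsProper f]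

/-- **A line bundle trivial on the closed fibre is an `n`-th power when `n` is invertible.** -/
theorem exists_root {n : ℕ} (hn : IsUnit (n : A)) {L : X.Modules} (hL : PicF.IsInvertible L)
    (h0 : Nonempty (pb (incl (IsLocalRing.maximalIdeal A) f 0) L ≅ Coh.structureModule _)) :
    ∃ M : X.Modules, PicF.IsInvertible M ∧ Nonempty (CohB1.tensorPow M n ≅ L) ∧
      Nonempty (pb (incl (IsLocalRing.maximalIdeal A) f 0) M ≅ Coh.structureModule _) := by
  classical
  let J := IsLocalRing.maximalIdeal A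
  let T := thickOf J f
  let Lk : ∀ k, (T.X k).Modules := fun k => pb (incl J f k) L
  have hLk : ∀ k, PicF.IsInvertible (Lk k) := fun k => AmpleDevLib.isInvertible_pb _ hL
  have hres : ∀ k, Nonempty (pb (T.i k) (Lk (k + 1)) ≅ Lk k) := fun k =>
    ⟨(Scheme.Modules.pullbackComp _ _).app L ≪≫ (Scheme.Modules.pullbackCongr (PicAlgzLib.i_incl J f k)).app L⟩
  have hsq : ∀ k, (T.i k).ker * (T.i k).ker = ⊥ := fun k => by
    refine Scheme.IdealSheafData.ext (funext fun W => ?_)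
    rw [Scheme.IdealSheafData.ideal_mul, Scheme.IdealSheafData.ideal_bot, Pi.mul_apply, Pi.bot_apply, ← le_bot_iff]
    have h1 := GrSysLib.ker_le T (h := Nat.le_succ k) (T.i k) (GrSysLib.sq_i T k) W
    refine (Ideal.mul_mono h1 h1).trans ?_
    rw [← Ideal.map_mul, ← pow_add, Ideal.map_le_iff_le_comap]
    intro b hb
    rw [Ideal.mem_comap, Ideal.mem_bot]
    show (T.X (k + 1)).presheaf.map (homOfLE (le_top : W.1 ≤ ⊤)).op
      (Coh.toGlobal (T.X (k + 1) ↘ Spec (CommRingCat.of A)) b) = 0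
    rw [GrSysLib.toGlobal_eq_zero T (k + 1) (Ideal.pow_le_pow_right (by omega) hb)]
    exact map_zero _
  have hu : ∀ k, IsUnit (n : Γ(T.X k, ⊤)) := fun k => by
    have := hn.map ((Scheme.ΓSpecIso (CommRingCat.of A)).inv ≫ (incl J f k ≫ f).appTop).hom
    rwa [map_natCast] at this
  -- the system
  let S : ℕ → Type (u + 1) := fun k =>
    {M : (T.X k).Modules // PicF.IsInvertible M ∧ Nonempty (CohB1.tensorPow M n ≅ Lk k)}
  have step : ∀ k (M : S k), ∃ M' : S (k + 1), Nonempty (pb (T.i k) M'.1 ≅ M.1) := fun k M => by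
    obtain ⟨M', h1, h2, h3⟩ := RootLiftLib.exists_root_lift (T.i k) (hsq k) (hu (k + 1)) (hLk (k + 1)) M.2.1
      (M.2.2.some ≪≫ (hres k).some.symm)
    exact ⟨⟨M', h1, h2⟩, h3⟩
  have h0n : Nonempty (CohB1.tensorPow (Coh.structureModule (T.X 0)) n ≅ Lk 0) := by
    suffices ∀ m, Nonempty (CohB1.tensorPow (Coh.structureModule (T.X 0)) m ≅ Coh.structureModule (T.X 0)) from
      ⟨(this n).some ≪≫ h0.some.symm⟩
    intro m
    induction m with
    | zero => exact ⟨Iso.refl _⟩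
    | succ m ih => exact ⟨HilbPolyLib.congrLeft ih.some _ ≪≫ HilbPolyLib.unitLeft _⟩
  let M0 : S 0 := ⟨Coh.structureModule (T.X 0), CurvLib.isInvertible_structureModule, h0n⟩
  let Ms : ∀ k, S k := fun k => Nat.rec M0 (fun k M => (step k M).choose) k
  let ψ : ∀ k, pb (T.i k) (Ms (k + 1)).1 ≅ (Ms k).1 := fun k => (step k (Ms k)).choose_spec.some
  -- algebraise
  letI : X.Over (Spec (CommRingCat.of A)) := ⟨f⟩
  haveI : IsProper (X ↘ Spec (CommRingCat.of A)) := ‹IsProper f›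
  obtain ⟨M, hMc, ⟨φ⟩⟩ := FormalCohLib.exists_algebraisation_proper (I := J) X
    (PicAlgzLib.isCohFormal_sys J f (fun k => (Ms k).1) ψ fun k => (Ms k).2.1)
  haveI := hMc.1
  have hpb : ∀ k, Nonempty (pb (incl J f k) M ≅ (Ms k).1) :=
    PicAlgzLib.nonempty_pullback_iso J f (fun k => (Ms k).1) ψ φ
  have hM : PicF.IsInvertible M :=
    PicAlgzLib.isInvertible_of_thickenings f hMc (fun k => (Ms k).1) (fun k => (Ms k).2.1) hpb
  refine ⟨M, hM, ?_, hpb 0⟩
  obtain ⟨L', ⟨eL⟩⟩ := NumTrivLib.exists_inverse hL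
  have hL' := IntMultLib.isInvertible_of_inverse hL eL
  have hMn := AmpleThLib.tensorPow_isInvertible hM n
  obtain ⟨e⟩ := ThickTrivLib.trivial_of_thickenings f (HilbPolyLib.isInvertible_tensor hMn hL') fun k => by
    obtain ⟨a⟩ := nonempty_pb_pow (incl J f k) hM n
    obtain ⟨b⟩ := GrSysLib.nonempty_tensorPow_congr (hpb k).some n
    obtain ⟨c⟩ := NumTrivLib.nonempty_pb_tensor (incl J f k) (CohB1.tensorPow M n) L'
    obtain ⟨d⟩ := NumTrivLib.nonempty_pb_tensor (incl J f k) L L'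
    exact ⟨c.symm ≪≫ HilbPolyLib.congrLeft (a ≪≫ b ≪≫ (Ms k).2.2.some) _ ≪≫ d ≪≫
      (Scheme.Modules.pullback (incl J f k)).mapIso eL ≪≫ KFlatLib.pullUnitIso _⟩
  exact ⟨(HilbPolyLib.unitLeft (CohB1.tensorPow M n)).symm ≪≫ HilbPolyLib.swapIso _ _ ≪≫
    HilbPolyLib.congrRight _ (eL.symm ≪≫ HilbPolyLib.swapIso _ _) ≪≫ (HilbPolyLib.assocIso _ _ _).symm ≪≫
    HilbPolyLib.congrLeft e _ ≪≫ HilbPolyLib.unitLeft _⟩

end RootAlgzLib

end
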