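import Groth.Agent.RootAlgzLib.Descend
import Groth.Agent.ConsLib.FGSystem
import Groth.Prelude.Def_Pic13
import Mathlib.AlgebraicGeometry.AlgClosed.Basic
import Mathlib.RingTheory.AdicCompletion.LocalRing
import Mathlib.RingTheory.AdicCompletion.Noetherian
import Groth.Agent.AdicRingLib.Completion
import Groth.Agent.SchFinLib.Conn

/-!
# Roots near a point of a family
-/

set_option autoImplicit false
set_option linter.style.haveILetI false
set_option maxHeartbeats 2000000
universe u

open CategoryTheory CategoryTheory.Limits AlgebraicGeometry TopologicalSpace Opposite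
open KFlatLib (pb)

noncomputable section

namespace RootAlgzLib

/-- A dense constructible set contains a non-empty open set. -/
theorem exists_open_subset_of_dense {X : Type u} [TopologicalSpace X] [IrreducibleSpace X] {s : Set X}
    (hs : Topology.IsConstructible s) (hd : Dense s) :
    ∃ U : Set X, IsOpen U ∧ U.Nonempty ∧ U ⊆ s := by
  have key : (∃ U : Set X, IsOpen U ∧ U.Nonempty ∧ U ⊆ s) ∨ ∃ U : Set X, IsOpen U ∧ U.Nonempty ∧ U ⊆ sᶜ := by
    clear hd
    induction hs using Topology.IsConstructible.empty_union_induction with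
    | open_retrocompact U hU hUc =>
      rcases U.eq_empty_or_nonempty with h | h
      · right; exact ⟨Set.univ, isOpen_univ, Set.univ_nonempty, by rw [h]; simp⟩
      · left; exact ⟨U, hU, h, subset_rfl⟩
    | union s hs t ht ihs iht =>
      rcases ihs with ⟨U, hU, hne, hsub⟩ | ⟨U, hU, hne, hsub⟩
      · left; exact ⟨U, hU, hne, hsub.trans Set.subset_union_left⟩
      · rcases iht with ⟨V, hV, hVne, hVsub⟩ | ⟨V, hV, hVne, hVsub⟩
        · left; exact ⟨V, hV, hVne, hVsub.trans Set.subset_union_right⟩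
        · right
          refine ⟨U ∩ V, hU.inter hV, nonempty_preirreducible_inter hU hV hne hVne, ?_⟩
          rw [Set.compl_union]
          exact Set.inter_subset_inter hsub hVsub
    | compl s hs ih =>
      rcases ih with h | h
      · right; simpa using h
      · left; exact h
  rcases key with h | ⟨U, hU, hne, hsub⟩
  · exact h
  · obtain ⟨y, hy1, hy2⟩ := dense_iff_inter_open.1 hd U hU hne
    exact absurd hy2 (hsub hy1)



/-- The completion at a maximal ideal: a complete Noetherian local ring with the same residue field. -/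
theorem exists_completion (R : Type u) [CommRing R] [IsDomain R] [IsNoetherianRing R] (m : Ideal R) [m.IsMaximal] :
    ∃ (A : Type u) (_ : CommRing A) (_ : IsNoetherianRing A) (_ : IsLocalRing A)
      (_ : IsAdicComplete (IsLocalRing.maximalIdeal A) A) (_ : Algebra R A),
      Function.Injective (algebraMap R A) ∧ (∀ r ∈ m, algebraMap R A r ∈ IsLocalRing.maximalIdeal A) ∧
      (∀ a : A, ∃ r : R, a - algebraMap R A r ∈ IsLocalRing.maximalIdeal A) := by
  let Rm := Localization.AtPrime m
  let J := IsLocalRing.maximalIdeal Rm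
  haveI := AdicRingLib.isNoetherianRing_adicCompletion (C := Rm) J
  refine ⟨AdicCompletion J Rm, inferInstance, inferInstance, inferInstance, inferInstance,
    ((algebraMap Rm (AdicCompletion J Rm)).comp (algebraMap R Rm)).toAlgebra, ?_, ?_, ?_⟩
  · haveI : IsHausdorff J Rm := inferInstance
    exact (AdicCompletion.of_injective (I := J) (M := Rm)).comp
      (IsLocalization.injective Rm m.primeCompl_le_nonZeroDivisors)
  · intro r hr
    show algebraMap Rm (AdicCompletion J Rm) (algebraMap R Rm r) ∈ _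
    rw [AdicCompletion.maximalIdeal_eq_map]
    exact Ideal.mem_map_of_mem _ ((IsLocalization.AtPrime.to_map_mem_maximal_iff Rm m r).2 hr)
  · intro a
    obtain ⟨x, hx⟩ := Ideal.Quotient.mk_surjective (I := J ^ 1 • (⊤ : Ideal Rm)) (a.1 1)
    obtain ⟨r, hr⟩ := (IsLocalization.AtPrime.equivQuotMaximalIdeal m Rm).surjective (Ideal.Quotient.mk J x)
    obtain ⟨r, rfl⟩ := Ideal.Quotient.mk_surjective r
    refine ⟨r, ?_⟩
    show a - algebraMap Rm (AdicCompletion J Rm) (algebraMap R Rm r) ∈ _
    rw [AdicCompletion.mem_maximalIdeal_iff_eval_one_eq_zero]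
    rw [IsLocalization.AtPrime.equivQuotMaximalIdeal_apply_mk] at hr
    show a.1 1 - Ideal.Quotient.mk (J ^ 1 • (⊤ : Ideal Rm)) (algebraMap R Rm r) = 0
    rw [← hx, sub_eq_zero, Ideal.Quotient.eq, smul_eq_mul, Ideal.mul_top, pow_one]
    exact Ideal.Quotient.eq.1 hr.symm

variable (k : Type u) [Field k] [IsAlgClosed k] (X : Scheme.{u}) [X.Over (Spec (CommRingCat.of k))]
  [IsProper (X ↘ Spec (CommRingCat.of k))]

/-- **Near a point where a family is trivial its members are `n`-th powers of algebraically trivial modules.** -/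
theorem exists_open_roots {n : ℕ} (hnk : (n : k) ≠ 0) (R : Type u) [CommRing R] [IsDomain R] [Algebra k R]
    [Algebra.FiniteType k R] (t : Spec (CommRingCat.of k) ⟶ Spec (CommRingCat.of R))
    (ht : t ≫ Spec.map (CommRingCat.ofHom (algebraMap k R)) = 𝟙 _)
    (N : (Pic13.prodK k X (Spec.map (CommRingCat.ofHom (algebraMap k R)))).Modules) (hN : PicF.IsInvertible N)
    (h0 : Nonempty (Pic13.fibreMod k X _ t ht N ≅ Coh.structureModule X)) :
    ∃ U : (Spec (CommRingCat.of R)).Opens, (U : Set (Spec (CommRingCat.of R))).Nonempty ∧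
      ∀ (u : Spec (CommRingCat.of k) ⟶ Spec (CommRingCat.of R)) (hu : u ≫ _ = 𝟙 _),
        u (IsLocalRing.closedPoint k) ∈ U → ∃ M : X.Modules, PicF.IsInvertible M ∧ Pic13.IsAlgEquivZero k X M ∧
          Nonempty (CohB1.tensorPow M n ≅ Pic13.fibreMod k X _ u hu N) := by
  classical
  let qR : Spec (CommRingCat.of R) ⟶ Spec (CommRingCat.of k) := Spec.map (CommRingCat.ofHom (algebraMap k R))
  haveI : IsNoetherianRing R := Algebra.FiniteType.isNoetherianRing k R
  obtain ⟨c₀, hc₀⟩ := Spec.map_surjective t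
  obtain ⟨c⟩ := c₀
  have hck : ∀ a : k, c (algebraMap k R a) = a := fun a => by
    have h := ht
    rw [← hc₀, ← Spec.map_comp, Spec.map_eq_id] at h
    exact ConcreteCategory.congr_hom h a
  let m : Ideal R := RingHom.ker c
  haveI : m.IsMaximal := RingHom.ker_isMaximal_of_surjective c fun a => ⟨_, hck a⟩
  obtain ⟨A, _, _, _, _, _, hinj, hm, hsur⟩ := exists_completion R m
  let J := IsLocalRing.maximalIdeal A
  -- the residue field is `k`
  let κ : Type u := A ⧸ J ^ (0 + 1)
  let φk : k →+* κ := (Ideal.Quotient.mk (J ^ (0 + 1))).comp ((algebraMap R A).comp (algebraMap k R))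
  have hmk : ∀ r : R, Ideal.Quotient.mk (J ^ (0 + 1)) (algebraMap R A r) = φk (c r) := fun r => by
    refine Ideal.Quotient.eq.2 ?_
    rw [zero_add, pow_one]
    show algebraMap R A r - algebraMap R A (algebraMap k R (c r)) ∈ J
    rw [← map_sub]
    exact hm _ (RingHom.mem_ker.2 (by rw [map_sub, hck, sub_self]))
  have hφk : Function.Bijective φk := by
    haveI : Nontrivial κ := Ideal.Quotient.nontrivial_iff.2 (by
      rw [zero_add, pow_one]; exact (IsLocalRing.maximalIdeal.isMaximal A).ne_top)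
    refine ⟨φk.injective, fun x => ?_⟩
    obtain ⟨a, rfl⟩ := Ideal.Quotient.mk_surjective x
    obtain ⟨r, hr⟩ := hsur a
    exact ⟨c r, (hmk r).symm.trans (Ideal.Quotient.eq.2 (by rw [zero_add, pow_one]; simpa using J.neg_mem hr))⟩
  let ek := RingEquiv.ofBijective φk hφk
  have hn : IsUnit (n : A) := by
    have h : IsUnit (n : k) := isUnit_iff_ne_zero.2 hnk
    have h2 := h.map ((algebraMap R A).comp (algebraMap k R))
    rwa [map_natCast] at h2
  -- the limit
  let g : Pic13.prodK k X qR ⟶ Spec (CommRingCat.of R) := pullback.snd _ qR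
  haveI : IsProper g := MorphismProperty.pullback_snd _ _ inferInstance
  let S := ConsLib.fgSys R A (Iso.refl (Spec (CommRingCat.of R)))
  let B := RichLib.LimBC.pb S g
  let f : B.c.pt ⟶ Spec (CommRingCat.of A) := pullback.snd g S.s
  haveI : IsProper f := MorphismProperty.pullback_snd _ _ inferInstance
  let L := pb B.s N
  have hS : S.s = Spec.map (CommRingCat.ofHom (algebraMap R A)) := Category.comp_id _
  let σ := CohB1.specQuot J 0
  let pk : Spec (CommRingCat.of κ) ⟶ Spec (CommRingCat.of k) := Spec.map (CommRingCat.ofHom φk)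
  have hσ : σ ≫ S.s = pk ≫ t := by
    rw [hS, ← hc₀, ← Spec.map_comp]
    simp only [σ, CohB1.specQuot, ← Spec.map_comp]
    congr 1
    ext r
    exact hmk r
  let p₀ : (PicAlgzLib.thickOf J f).X 0 ⟶ X := PicAlgzLib.incl J f 0 ≫ B.s ≫ pullback.fst _ qR
  have hp₀ : p₀ ≫ Pic13.sliceAt k X qR t ht = PicAlgzLib.incl J f 0 ≫ B.s := by
    refine pullback.hom_ext ?_ ?_
    · rw [Category.assoc, Pic13.sliceAt, pullback.lift_fst, Category.comp_id, Category.assoc]
    · rw [Category.assoc, Pic13.sliceAt, pullback.lift_snd]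
      have h1 : B.s ≫ pullback.snd _ qR = f ≫ S.s := pullback.condition
      have h2 : PicAlgzLib.incl J f 0 ≫ f = pullback.snd f σ ≫ σ := pullback.condition
      have h4 : (PicAlgzLib.incl J f 0 ≫ B.s) ≫ pullback.snd _ qR = pullback.snd f σ ≫ pk ≫ t := by
        rw [Category.assoc, h1, reassoc_of% h2]
        exact congrArg (pullback.snd f σ ≫ ·) hσ
      have h3 : pullback.fst _ qR ≫ (X ↘ Spec (CommRingCat.of k)) = pullback.snd _ qR ≫ qR := pullback.condition
      have h5 : p₀ ≫ (X ↘ Spec (CommRingCat.of k)) = pullback.snd f σ ≫ pk := by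
        calc p₀ ≫ (X ↘ Spec (CommRingCat.of k))
            = PicAlgzLib.incl J f 0 ≫ B.s ≫ (pullback.fst _ qR ≫ (X ↘ Spec (CommRingCat.of k))) := by
              simp only [p₀, Category.assoc]
          _ = PicAlgzLib.incl J f 0 ≫ B.s ≫ (pullback.snd _ qR ≫ qR) :=
              congrArg (fun φ => PicAlgzLib.incl J f 0 ≫ B.s ≫ φ) h3
          _ = ((PicAlgzLib.incl J f 0 ≫ B.s) ≫ pullback.snd _ qR) ≫ qR := by simp only [Category.assoc]
          _ = (pullback.snd f σ ≫ pk ≫ t) ≫ qR := congrArg (· ≫ qR) h4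
          _ = pullback.snd f σ ≫ pk := (Category.assoc _ _ _).trans (congrArg (pullback.snd f σ ≫ ·)
              ((Category.assoc _ _ _).trans ((congrArg (pk ≫ ·) ht).trans (Category.comp_id _))))
      rw [reassoc_of% h5]
      exact h4.symm
  have hL0 : Nonempty (pb (PicAlgzLib.incl J f 0) L ≅ Coh.structureModule _) :=
    ⟨(Scheme.Modules.pullbackComp _ _).app N ≪≫ (Scheme.Modules.pullbackCongr hp₀.symm).app N ≪≫
      ((Scheme.Modules.pullbackComp _ _).app N).symm ≪≫ (Scheme.Modules.pullback p₀).mapIso h0.some ≪≫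
      KFlatLib.pullUnitIso p₀⟩
  obtain ⟨M, hM, ⟨eM⟩, ⟨eM0⟩⟩ := exists_root f hn (AmpleDevLib.isInvertible_pb B.s hN) hL0
  -- descend
  haveI : IsLocallyNoetherian (Pic13.prodK k X qR) := LocallyOfFiniteType.isLocallyNoetherian g
  haveI : CompactSpace ↥(Pic13.prodK k X qR) := QuasiCompact.compactSpace_of_compactSpace g
  haveI : IsNoetherian B.c.pt := by
    haveI : IsLocallyNoetherian B.c.pt := LocallyOfFiniteType.isLocallyNoetherian f
    haveI : CompactSpace B.c.pt := QuasiCompact.compactSpace_of_compactSpace f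
    constructor
  haveI : ∀ i, IsNoetherian (B.D.obj i) := fun i => by
    haveI := ConsLib.locallyOfFiniteType_fgSys_t R A (Iso.refl (Spec (CommRingCat.of R))) i
    haveI : LocallyOfFiniteType (B.t i) := MorphismProperty.pullback_fst g (S.t i) inferInstance
    haveI := B.affine i
    haveI : IsLocallyNoetherian (B.D.obj i) := LocallyOfFiniteType.isLocallyNoetherian (B.t i)
    haveI : CompactSpace (B.D.obj i) := QuasiCompact.compactSpace_of_compactSpace (B.t i)
    constructor
  obtain ⟨i, Mi, hMi, ⟨ei⟩, ⟨eni⟩⟩ := exists_root_stage B hN hM eM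
  let C := i.unop.1
  let qC : Spec (CommRingCat.of C) ⟶ Spec (CommRingCat.of k) := S.t i ≫ qR
  haveI hlft : LocallyOfFiniteType (S.t i) :=
    ConsLib.locallyOfFiniteType_fgSys_t R A (Iso.refl (Spec (CommRingCat.of R))) i
  haveI : QuasiCompact (S.t i) := by haveI := S.affine i; infer_instance
  haveI : LocallyOfFiniteType qR := (HasRingHomProperty.Spec_iff (P := @LocallyOfFiniteType)).mpr
    (RingHom.finiteType_algebraMap.mpr inferInstance)
  haveI : LocallyOfFiniteType qC := inferInstanceAs (LocallyOfFiniteType (S.t i ≫ qR))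
  haveI : QuasiCompact qC := inferInstanceAs (QuasiCompact (S.t i ≫ qR))
  haveI : ConnectedSpace (Spec (CommRingCat.of C)) := by
    have hidem : ∀ e : C, IsIdempotentElem e → e = 0 ∨ e = 1 := fun e he => by
      have h : IsIdempotentElem (e : A) := congrArg Subtype.val he
      by_cases hu : IsUnit (e : A)
      · exact Or.inr (Subtype.ext (hu.mul_left_cancel (h.eq.trans (mul_one (e : A)).symm)))
      · refine Or.inl (Subtype.ext ?_)
        have hu' : IsUnit (1 - (e : A)) := IsLocalRing.isUnit_one_sub_self_of_mem_nonunits _ hu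
        refine hu'.mul_left_cancel (b := (e : A)) (c := (0 : A)) ?_
        rw [mul_zero, sub_mul, one_mul, h.eq, sub_self]
    exact Groth.Agent.SchFinLib.connectedSpace_iff_idempotent.2 ⟨inferInstance, hidem⟩
  -- the base point
  let cA : C →+* k := ek.symm.toRingHom.comp ((Ideal.Quotient.mk (J ^ (0 + 1))).comp C.val.toRingHom)
  let b₀ : Spec (CommRingCat.of k) ⟶ Spec (CommRingCat.of C) := Spec.map (CommRingCat.ofHom cA)
  have htC : S.t i = Spec.map (CommRingCat.ofHom (algebraMap R C)) := Category.comp_id _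
  have hb₀ : b₀ ≫ S.t i = t := by
    rw [htC, ← hc₀, ← Spec.map_comp]
    congr 1
    ext r
    show ek.symm (Ideal.Quotient.mk (J ^ (0 + 1)) (algebraMap R A r)) = c r
    rw [hmk r]
    exact ek.symm_apply_apply _
  have hb₀q : b₀ ≫ qC = 𝟙 _ := by
    show b₀ ≫ S.t i ≫ qR = 𝟙 _
    rw [reassoc_of% hb₀]; exact ht
  let w : Pic13.prodK k X qC ⟶ B.D.obj i :=
    pullback.lift (f := g) (g := S.t i) (pullback.lift (f := X ↘ Spec (CommRingCat.of k)) (g := qR)
      (pullback.fst _ qC) (pullback.snd _ qC ≫ S.t i) (pullback.condition.trans (Category.assoc _ _ _).symm))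
      (pullback.snd _ qC) (pullback.lift_snd _ _ _)
  have hwt : ∀ (b : Spec (CommRingCat.of k) ⟶ Spec (CommRingCat.of C)) (hb : b ≫ qC = 𝟙 _)
      (u : Spec (CommRingCat.of k) ⟶ Spec (CommRingCat.of R)) (hu : u ≫ qR = 𝟙 _), b ≫ S.t i = u →
      Pic13.sliceAt k X qC b hb ≫ w ≫ B.t i = Pic13.sliceAt k X qR u hu := fun b hb u hu hbu => by
    have h1 : w ≫ B.t i = pullback.lift (f := X ↘ Spec (CommRingCat.of k)) (g := qR) (pullback.fst _ qC)
        (pullback.snd _ qC ≫ S.t i) (pullback.condition.trans (Category.assoc _ _ _).symm) := pullback.lift_fst _ _ _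
    rw [h1]
    refine pullback.hom_ext ?_ ?_
    · rw [Category.assoc, pullback.lift_fst, Pic13.sliceAt, Pic13.sliceAt, pullback.lift_fst, pullback.lift_fst]
    · rw [Category.assoc, pullback.lift_snd, Pic13.sliceAt, Pic13.sliceAt, pullback.lift_snd_assoc,
        pullback.lift_snd, Category.assoc, hbu]
  let MC := pb w Mi
  have hMC : PicF.IsInvertible MC := AmpleDevLib.isInvertible_pb w hMi
  -- the base member is trivial
  have hbase : Nonempty (Pic13.fibreMod k X qC b₀ hb₀q MC ≅ Coh.structureModule X) := by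
    let ι₁ : Spec (CommRingCat.of k) ⟶ Spec (CommRingCat.of κ) := Spec.map (CommRingCat.ofHom ek.symm.toRingHom)
    have hιt : ι₁ ≫ σ ≫ S.c.π.app i = b₀ := by
      show Spec.map _ ≫ Spec.map _ ≫ Spec.map (CommRingCat.ofHom C.val.toRingHom) = b₀
      simp only [b₀, ← Spec.map_comp, ← CommRingCat.ofHom_comp]
    have hs' : S.c.π.app i ≫ S.t i = S.s := S.hs i
    let j₀ : X ⟶ B.c.pt := pullback.lift (f := g) (g := S.s) (Pic13.sliceAt k X qR t ht)
      ((X ↘ Spec (CommRingCat.of k)) ≫ ι₁ ≫ σ) (by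
        have h1 : Pic13.sliceAt k X qR t ht ≫ g = (X ↘ Spec (CommRingCat.of k)) ≫ t := pullback.lift_snd _ _ _
        rw [h1, Category.assoc]
        refine congrArg ((X ↘ Spec (CommRingCat.of k)) ≫ ·) ?_
        rw [← hs', Category.assoc]
        refine hb₀.symm.trans ((congrArg (· ≫ S.t i) hιt.symm).trans ?_)
        exact (Category.assoc _ _ _).trans (congrArg (ι₁ ≫ ·) (Category.assoc _ _ _)))
    let j₁ : X ⟶ (PicAlgzLib.thickOf J f).X 0 :=
      pullback.lift (f := f) (g := σ) j₀ ((X ↘ Spec (CommRingCat.of k)) ≫ ι₁)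
        ((pullback.lift_snd _ _ _).trans (Category.assoc _ _ _).symm)
    have hj : j₁ ≫ PicAlgzLib.incl J f 0 = j₀ := pullback.lift_fst _ _ _
    have hpi : j₀ ≫ B.c.π.app i = Pic13.sliceAt k X qC b₀ hb₀q ≫ w := by
      refine pullback.hom_ext (f := g) (g := S.t i) ?_ ?_
      · refine ((Category.assoc _ _ _).trans (congrArg (j₀ ≫ ·) (B.hs i))).trans (Eq.trans ?_ (Category.assoc _ _ _).symm)
        exact (pullback.lift_fst _ _ _).trans (hwt b₀ hb₀q t ht hb₀).symm
      · refine ((Category.assoc _ _ _).trans (congrArg (j₀ ≫ ·) (RichLib.LimBC.pbπ_snd S g i))).trans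
          (Eq.trans ?_ (Category.assoc _ _ _).symm)
        refine ((Category.assoc _ _ _).symm.trans (congrArg (· ≫ S.c.π.app i) (pullback.lift_snd _ _ _))).trans ?_
        refine ((Category.assoc _ _ _).trans (congrArg ((X ↘ Spec (CommRingCat.of k)) ≫ ·)
          ((Category.assoc _ _ _).trans hιt))).trans ?_
        exact ((congrArg (Pic13.sliceAt k X qC b₀ hb₀q ≫ ·) (pullback.lift_snd _ _ _)).trans
          (pullback.lift_snd _ _ _)).symm
    exact ⟨(Scheme.Modules.pullbackComp _ _).app Mi ≪≫ (Scheme.Modules.pullbackCongr hpi.symm).app Mi ≪≫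
      ((Scheme.Modules.pullbackComp _ _).app Mi).symm ≪≫ (Scheme.Modules.pullback j₀).mapIso ei ≪≫
      (Scheme.Modules.pullbackCongr hj.symm).app M ≪≫ ((Scheme.Modules.pullbackComp _ _).app M).symm ≪≫
      (Scheme.Modules.pullback j₁).mapIso eM0 ≪≫ KFlatLib.pullUnitIso j₁⟩
  -- the image
  haveI : LocallyOfFinitePresentation (S.t i) := LocallyOfFinitePresentation.iff_locallyOfFiniteType.2 inferInstance
  have hcons : Topology.IsConstructible (Set.range (S.t i)) := by
    rw [← Set.image_univ]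
    exact (S.t i).isConstructible_image Topology.IsConstructible.univ
  have hdense : Dense (Set.range (S.t i)) := by
    rw [htC]
    refine (PrimeSpectrum.denseRange_comap_iff_ker_le_nilRadical _).2 ?_
    refine le_of_eq_of_le ?_ bot_le
    exact (RingHom.injective_iff_ker_eq_bot (algebraMap R C)).1 fun a b h => hinj (congrArg Subtype.val h)
  obtain ⟨U, hUo, hUne, hU⟩ := exists_open_subset_of_dense hcons hdense
  refine ⟨⟨U, hUo⟩, hUne, fun u hu huU => ?_⟩
  obtain ⟨p, hp⟩ := hU huU
  have hclosed : IsClosed ({u (IsLocalRing.closedPoint k)} : Set (Spec (CommRingCat.of R))) :=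
    (pointEquivClosedPoint qR ⟨u, hu⟩).2
  haveI : JacobsonSpace (Spec (CommRingCat.of C)) := LocallyOfFiniteType.jacobsonSpace qC
  haveI : JacobsonSpace ↥(S.D.obj i) := ‹JacobsonSpace (Spec (CommRingCat.of C))›
  obtain ⟨b, hbmem, hbc⟩ := nonempty_inter_closedPoints (Z := S.t i ⁻¹' {u (IsLocalRing.closedPoint k)})
    ⟨p, hp⟩ (hclosed.preimage (S.t i).continuous).isLocallyClosed
  let bp := pointOfClosedPoint qC b hbc
  have hbq : bp ≫ qC = 𝟙 _ := pointOfClosedPoint_comp qC b hbc
  have hbu : bp ≫ S.t i = u := by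
    refine congrArg Subtype.val ((pointEquivClosedPoint qR).injective (a₁ := ⟨bp ≫ S.t i, ?_⟩) (a₂ := ⟨u, hu⟩) ?_)
    · rw [Category.assoc]; exact hbq
    · refine Subtype.ext ?_
      show (bp ≫ S.t i) (IsLocalRing.closedPoint k) = _
      rw [Scheme.Hom.comp_apply, pointOfClosedPoint_apply]
      exact hbmem
  refine ⟨Pic13.fibreMod k X qC bp hbq MC, AmpleDevLib.isInvertible_pb _ hMC,
    ⟨Spec (CommRingCat.of C), qC, inferInstance, inferInstance, inferInstance, MC, hMC, bp, b₀, hbq, hb₀q,
      ⟨Iso.refl _⟩, hbase⟩, ?_⟩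
  obtain ⟨a⟩ := nonempty_pb_pow w hMi n
  obtain ⟨a'⟩ := nonempty_pb_pow (Pic13.sliceAt k X qC bp hbq) hMC n
  exact ⟨a'.symm ≪≫ (Scheme.Modules.pullback _).mapIso (a.symm ≪≫ (Scheme.Modules.pullback w).mapIso eni ≪≫
    (Scheme.Modules.pullbackComp _ _).app N) ≪≫ (Scheme.Modules.pullbackComp _ _).app N ≪≫
    (Scheme.Modules.pullbackCongr (hwt bp hbq u hu hbu)).app N⟩

end RootAlgzLib

end
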